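import Groth.Agent.Lib.EGA43Top.DimLift
import Groth.Prelude.Def_CInt
import Mathlib.AlgebraicGeometry.Morphisms.Flat

/-!
# Dimension of the local rings of fibres under a morphism of fibres
-/

universe u

open CategoryTheory CategoryTheory.Limits AlgebraicGeometry IsLocalRing

set_option linter.style.haveILetI false
set_option backward.isDefEq.respectTransparency false

namespace Groth.Agent.FibCodim11

/-- The dimension inequality for a local homomorphism of Noetherian local rings. -/
theorem ringKrullDim_le_add {A B : Type u} [CommRing A] [CommRing B] [IsLocalRing A] [IsLocalRing B]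
    [IsNoetherianRing A] [IsNoetherianRing B] (φ : A →+* B) [IsLocalHom φ] :
    ringKrullDim B ≤ ringKrullDim A + ringKrullDim (B ⧸ (maximalIdeal A).map φ) := by
  letI := φ.toAlgebra
  haveI : (maximalIdeal B).LiesOver (maximalIdeal A) := ⟨(maximalIdeal_comap φ).symm⟩
  have h := Ideal.height_le_height_add_of_liesOver (maximalIdeal A) (maximalIdeal B)
  rw [← maximalIdeal_height_eq_ringKrullDim, ← maximalIdeal_height_eq_ringKrullDim]
  refine le_trans (WithBot.coe_le_coe.mpr h) ?_
  rw [WithBot.coe_add]
  refine add_le_add le_rfl (Ideal.height_le_ringKrullDim_of_ne_top ?_)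
  have hI : (maximalIdeal A).map φ ≤ maximalIdeal B :=
    Ideal.map_le_iff_le_comap.2 (maximalIdeal_comap φ).ge
  intro htop
  have h1 : (1 : B ⧸ (maximalIdeal A).map (algebraMap A B)) ∈
      (maximalIdeal B).map (Ideal.Quotient.mk ((maximalIdeal A).map (algebraMap A B))) :=
    htop ▸ Submodule.mem_top
  obtain ⟨b, hb, hb1⟩ := (Ideal.mem_map_iff_of_surjective _ Ideal.Quotient.mk_surjective).1 h1
  have h2 : b - 1 ∈ maximalIdeal B := hI ((Ideal.Quotient.eq (x := b) (y := 1)).1 (hb1.trans (map_one _).symm))
  exact (maximalIdeal.isMaximal B).ne_top ((Ideal.eq_top_iff_one _).2 (by simpa using sub_mem hb h2))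

/-- A nonempty scheme has a point whose local ring has dimension zero. -/
theorem exists_ringKrullDim_stalk_eq_zero (X : Scheme.{u}) [Nonempty X] :
    ∃ η : X, ringKrullDim (X.presheaf.stalk η) = 0 := by
  let C : irreducibleComponents X :=
    ⟨irreducibleComponent (Classical.arbitrary X), irreducibleComponent_mem_irreducibleComponents _⟩
  refine ⟨(genericPoints.ofComponent C).1, ?_⟩
  have hη : closure {(genericPoints.ofComponent C).1} ∈ irreducibleComponents X :=
    (genericPoints.ofComponent C).2
  rw [ringKrullDim_stalk_eq_coheight]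
  have hmax : IsMax (genericPoints.ofComponent C).1 := by
    intro y hy
    have hy' : y ⤳ (genericPoints.ofComponent C).1 := hy
    exact specializes_iff_closure_subset.2
      (hη.2 isIrreducible_singleton.closure (specializes_iff_closure_subset.1 hy'))
  simp [Order.coheight_eq_zero.2 hmax]

variable {X S : Scheme.{u}} (f : X ⟶ S)

theorem apply_fiberι (s : S) (z : f.fiber s) : f (f.fiberι s z) = s :=
  ((Scheme.Hom.range_fiberι f s).le ⟨z, rfl⟩ :)

/-- The local rings of the fibre over `s` are the `CInt.fiberStalk`s. -/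
theorem ringKrullDim_stalk_fiber (s : S) (z : f.fiber s) :
    ringKrullDim ((f.fiber s).presheaf.stalk z) = ringKrullDim (CInt.fiberStalk f (f.fiberι s z)) := by
  have key : ∀ (w : X) (s' : S), f w = s' → ∀ z' : f.fiber s', f.fiberι s' z' = w →
      ringKrullDim ((f.fiber s').presheaf.stalk z') = ringKrullDim (CInt.fiberStalk f w) := by
    intro w s' hw z' hz'
    subst hw
    obtain rfl : z' = f.asFiber w :=
      (f.fiberι _).isEmbedding.injective (hz'.trans (Scheme.Hom.fiberι_asFiber _ _).symm)
    rfl
  exact key _ s (apply_fiberι f s z) z rfl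

theorem isNoetherianRing_stalk_fiber [IsLocallyNoetherian X] (s : S) (z : f.fiber s) :
    IsNoetherianRing ((f.fiber s).presheaf.stalk z) :=
  isNoetherianRing_of_surjective (X.presheaf.stalk (f.fiberι s z)) _ ((f.fiberι s).stalkMap z).hom
    ((f.fiberι s).stalkMap_surjective z)

/-- The dimension inequality, for a morphism with Noetherian local rings. -/
theorem ringKrullDim_stalk_le_add {Z W : Scheme.{u}} (π : Z ⟶ W) (z : Z)
    [IsNoetherianRing (Z.presheaf.stalk z)] [IsNoetherianRing (W.presheaf.stalk (π z))] :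
    ringKrullDim (Z.presheaf.stalk z) ≤
      ringKrullDim (W.presheaf.stalk (π z)) + ringKrullDim (CInt.fiberStalk π z) := by
  rw [CInt.fiberStalk, EGA43Top.ringKrullDim_fiber_stalk]
  exact ringKrullDim_le_add (π.stalkMap z).hom

/-- Above a point in the image there is a point with no larger local dimension. -/
theorem exists_ringKrullDim_stalk_le {Z W : Scheme.{u}} (π : Z ⟶ W)
    (hZ : ∀ z : Z, IsNoetherianRing (Z.presheaf.stalk z))
    (hW : ∀ w : W, IsNoetherianRing (W.presheaf.stalk w)) (z₀ : Z) :
    ∃ z : Z, π z = π z₀ ∧ ringKrullDim (Z.presheaf.stalk z) ≤ ringKrullDim (W.presheaf.stalk (π z₀)) := by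
  haveI : Nonempty (π.fiber (π z₀)) := ⟨π.asFiber z₀⟩
  obtain ⟨η, hη⟩ := exists_ringKrullDim_stalk_eq_zero (π.fiber (π z₀))
  refine ⟨π.fiberι (π z₀) η, apply_fiberι π _ η, ?_⟩
  haveI := hZ (π.fiberι (π z₀) η)
  haveI := hW (π (π.fiberι (π z₀) η))
  have h := ringKrullDim_stalk_le_add π (π.fiberι (π z₀) η)
  rw [← ringKrullDim_stalk_fiber π, hη, add_zero, apply_fiberι] at h
  exact h

/-- Flat morphisms do not lower the dimension of local rings. -/
theorem ringKrullDim_stalk_le_of_flat {Z W : Scheme.{u}} (π : Z ⟶ W) [Flat π] (z : Z)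
    [IsNoetherianRing (Z.presheaf.stalk z)] [IsNoetherianRing (W.presheaf.stalk (π z))] :
    ringKrullDim (W.presheaf.stalk (π z)) ≤ ringKrullDim (Z.presheaf.stalk z) := by
  letI := (π.stalkMap z).hom.toAlgebra
  haveI : Module.Flat (W.presheaf.stalk (π z)) (Z.presheaf.stalk z) := Flat.stalkMap π z
  haveI : IsLocalHom (algebraMap (W.presheaf.stalk (π z)) (Z.presheaf.stalk z)) := π.toLRSHom.prop z
  haveI := Module.FaithfullyFlat.of_flat_of_isLocalHom (A := W.presheaf.stalk (π z))
    (B := Z.presheaf.stalk z)
  exact EGA43Top.ringKrullDim_le_of_comap_surjective (π.stalkMap z).hom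
    (PrimeSpectrum.comap_surjective_of_faithfullyFlat (A := W.presheaf.stalk (π z))
      (B := Z.presheaf.stalk z))

section Map

variable {X' S' : Scheme.{u}} (f' : X' ⟶ S') (a : X' ⟶ X) (b : S' ⟶ S) (hw : f' ≫ b = a ≫ f)

/-- The morphism induced between the fibres over `s'` and over its image. -/
noncomputable def fibreMap (s' : S') : f'.fiber s' ⟶ f.fiber (b s') :=
  pullback.map f' (S'.fromSpecResidueField s') f (S.fromSpecResidueField (b s')) a
    (Spec.map (b.residueFieldMap s')) b hw (by rw [Scheme.Hom.SpecMap_residueFieldMap_fromSpecResidueField])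

@[reassoc (attr := simp)]
theorem fibreMap_fiberι (s' : S') :
    fibreMap f f' a b hw s' ≫ f.fiberι (b s') = f'.fiberι s' ≫ a :=
  pullback.lift_fst _ _ _

theorem fiberι_fibreMap_apply (s' : S') (z : f'.fiber s') :
    f.fiberι (b s') (fibreMap f f' a b hw s' z) = a (f'.fiberι s' z) := by
  rw [← Scheme.Hom.comp_apply, fibreMap_fiberι, Scheme.Hom.comp_apply]

include hw in
/-- A point in the image has a preimage whose fibre local ring is no larger in dimension. -/
theorem exists_fiberStalk_dim_le [IsLocallyNoetherian X] [IsLocallyNoetherian X'] (x' : X') :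
    ∃ y' : X', a y' = a x' ∧
      ringKrullDim (CInt.fiberStalk f' y') ≤ ringKrullDim (CInt.fiberStalk f (a x')) := by
  obtain ⟨z, hz, hle⟩ := exists_ringKrullDim_stalk_le (fibreMap f f' a b hw (f' x'))
    (fun z => isNoetherianRing_stalk_fiber f' _ z) (fun z => isNoetherianRing_stalk_fiber f _ z) (f'.asFiber x')
  refine ⟨f'.fiberι (f' x') z, ?_, ?_⟩
  · rw [← fiberι_fibreMap_apply f f' a b hw, hz, fiberι_fibreMap_apply, Scheme.Hom.fiberι_asFiber]
  · rw [ringKrullDim_stalk_fiber f' (f' x') z,
      ringKrullDim_stalk_fiber f (b (f' x')) (fibreMap f f' a b hw (f' x') (f'.asFiber x')),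
      fiberι_fibreMap_apply, Scheme.Hom.fiberι_asFiber] at hle
    exact hle

include hw in
/-- If the induced morphism of fibres is flat, fibre local dimensions do not drop. -/
theorem fiberStalk_dim_le_of_flat [IsLocallyNoetherian X] [IsLocallyNoetherian X'] (x' : X')
    [Flat (fibreMap f f' a b hw (f' x'))] :
    ringKrullDim (CInt.fiberStalk f (a x')) ≤ ringKrullDim (CInt.fiberStalk f' x') := by
  haveI := isNoetherianRing_stalk_fiber f' (f' x') (f'.asFiber x')
  haveI := isNoetherianRing_stalk_fiber f (b (f' x')) (fibreMap f f' a b hw (f' x') (f'.asFiber x'))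
  have h := ringKrullDim_stalk_le_of_flat (fibreMap f f' a b hw (f' x')) (f'.asFiber x')
  rw [ringKrullDim_stalk_fiber f (b (f' x')) (fibreMap f f' a b hw (f' x') (f'.asFiber x')),
    fiberι_fibreMap_apply, Scheme.Hom.fiberι_asFiber] at h
  exact h

end Map

/-- A morphism to the spectrum of a field is flat. -/
theorem flat_SpecMap_of_field {K L : CommRingCat.{u}} (hK : IsField K) (φ : K ⟶ L) : Flat (Spec.map φ) := by
  rw [HasRingHomProperty.Spec_iff (P := @Flat)]
  letI := hK.toField
  letI := φ.hom.toAlgebra
  exact (inferInstance : Module.Flat K L)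

theorem flat_fibreMap_pullback {S' : Scheme.{u}} (g : S' ⟶ S) (s' : S') :
    Flat (fibreMap f (pullback.snd f g) (pullback.fst f g) g pullback.condition.symm s') := by
  have h1 : IsPullback ((pullback.snd f g).fiberι s' ≫ pullback.fst f g)
      ((pullback.snd f g).fiberToSpecResidueField s') f (S'.fromSpecResidueField s' ≫ g) :=
    IsPullback.paste_horiz (IsPullback.of_hasPullback (pullback.snd f g) (S'.fromSpecResidueField s'))
      (IsPullback.of_hasPullback f g)
  have h2 : IsPullback (fibreMap f (pullback.snd f g) (pullback.fst f g) g pullback.condition.symm s')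
      ((pullback.snd f g).fiberToSpecResidueField s') (f.fiberToSpecResidueField (g s'))
      (Spec.map (g.residueFieldMap s')) := by
    refine IsPullback.of_right ?_ (pullback.lift_snd _ _ _) (IsPullback.of_hasPullback f (S.fromSpecResidueField (g s')))
    show IsPullback (_ ≫ f.fiberι (g s')) _ _ _
    rw [fibreMap_fiberι, Scheme.Hom.SpecMap_residueFieldMap_fromSpecResidueField]
    exact h1
  exact MorphismProperty.of_isPullback (P := @Flat) h2.flip
    (flat_SpecMap_of_field (Field.toIsField _) _)

end Groth.Agent.FibCodim11
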